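import Groth.Agent.Pencil.Irred
import Groth.Agent.NumTau.Bounded

/-!
# Constant Euler characteristics give numerical triviality
-/

set_option autoImplicit false
set_option linter.style.haveILetI false
set_option linter.unusedSectionVars false
set_option backward.isDefEq.respectTransparency false
set_option backward.isDefEq.respectTransparency.types false
set_option maxHeartbeats 1000000
attribute [-instance] CategoryTheory.catToReflQuiver

universe u

open CategoryTheory CategoryTheory.Limits AlgebraicGeometry TopologicalSpace Opposite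
open Groth.Agent.H23.PicMul

noncomputable section

namespace Groth.Agent.Pencil

open Groth.Agent Groth.Agent.Big

variable (k : Type u) [Field k] {X : Scheme.{u}} [X.Over (Spec (CommRingCat.of k))]
  [IsProper (X ↘ Spec (CommRingCat.of k))] [IrreducibleSpace X]

omit [IrreducibleSpace X] in
theorem alt_cons_one {r : ℕ} (N : Fin r → X.Modules) :
    alt k (Fin.cons (Coh.structureModule X) N) (Coh.structureModule X) = 0 := by
  rw [alt_cons, sub_eq_zero]
  exact alt_congr_cl k (fun _ => rfl) (by rw [cl_tensor, one_mul_cl])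

include k in
/-- `χ(Lᵃ ⊗ Hᵇ) = χ(Hᵇ)` forces `L` to be numerically trivial. -/
theorem numTriv_of_euler {H H' L : X.Modules} (hH : CohB1.IsAmple H) (hH' : PicF.IsInvertible H')
    (hHH' : PicF.cl H * PicF.cl H' = 1) (hL : PicF.IsInvertible L) {r : ℕ}
    (hdim : topologicalKrullDim X = (r : ℕ))
    (hχ : ∀ a b : ℕ, Curv2.euler k X (CohB1.tensorMod (CohB1.tensorPow L a) (CohB1.tensorPow H' b)) =
      Curv2.euler k X (CohB1.tensorPow H' b)) : NumTriv k L := by
  haveI := CurveCohLib.isNoetherian_of_proper (k := k) (X := X)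
  have hχs : ∀ {q : ℕ} (M M₀ : Fin q → X.Modules) (n : Fin q → ℕ) (a b : ℕ),
      (∏ i, PicF.cl (M i) ^ n i) = PicF.cl L ^ a * PicF.cl H' ^ b → (∏ i, PicF.cl (M₀ i) ^ n i) = PicF.cl H' ^ b →
      Snapper.χs k M (Coh.structureModule X) n = Snapper.χs k M₀ (Coh.structureModule X) n := by
    intro q M M₀ n a b e e₀
    refine congrArg Int.cast ((CurveCohLib.euler_congr (k := k) (cl_eq_iff.1 ?_).some).trans ((hχ a b).trans
      (CurveCohLib.euler_congr (k := k) (cl_eq_iff.1 ?_).some)))
    · rw [cl_tensorPows, e, one_mul_cl, cl_tensor, cl_tensorPow, cl_tensorPow]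
    · rw [cl_tensorPows, e₀, one_mul_cl, cl_tensorPow]
  have hone : ∀ j : ℕ, PicF.cl (Coh.structureModule X) ^ j = 1 := fun j => by rw [← H23.PicMul.one_def, one_pow]
  have hdeg : ∀ s : ℕ, alt k (Fin.cons L fun _ : Fin s => H') (Coh.structureModule X) = 0 := fun s => by
    refine Eq.trans (Finset.sum_congr rfl fun f _ => congrArg (sgn f * ·) ?_) (alt_cons_one k fun _ : Fin s => H')
    refine hχs _ _ _ (cube f 0) (∑ i : Fin s, cube f i.succ) ?_ ?_ <;>
      simp [Fin.prod_univ_succ, Finset.prod_pow_eq_pow_sum, hone]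
  have hsq : ∀ s : ℕ, alt k (Fin.cons L (Fin.cons L fun _ : Fin s => H')) (Coh.structureModule X) = 0 := fun s => by
    refine Eq.trans (Finset.sum_congr rfl fun f _ => congrArg (sgn f * ·) ?_)
      (alt_cons_one k (Fin.cons (Coh.structureModule X) fun _ : Fin s => H'))
    refine hχs _ _ _ (cube f 0 + cube f 1) (∑ i : Fin s, cube f i.succ.succ) ?_ ?_ <;>
      simp [Fin.prod_univ_succ, Finset.prod_pow_eq_pow_sum, hone, pow_add, mul_assoc]
  obtain rfl | rfl | ⟨s, rfl⟩ : r = 0 ∨ r = 1 ∨ ∃ s, r = s + 2 := by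
    rcases r with _ | _ | s
    · exact Or.inl rfl
    · exact Or.inr (Or.inl rfl)
    · exact Or.inr (Or.inr ⟨s, rfl⟩)
  · intro C ι _ hC hCd
    exfalso
    have h : topologicalKrullDim C ≤ topologicalKrullDim X := ι.isClosedEmbedding.isInducing.topologicalKrullDim_le
    rw [hCd, hdim] at h
    exact absurd h (by norm_num)
  · intro C ι _ hC hCd
    haveI := hC
    obtain ⟨c, hc, h⟩ := exists_len_pos k hdim
    have hM : ∀ j, PicF.IsInvertible ((![L] : Fin 1 → X.Modules) j) := fun j => by fin_cases j; exact hL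
    have h0 : alt k ![L] (Coh.structureModule X) = 0 :=
      (alt_congr_cl k (fun i => by fin_cases i; rfl) rfl).trans (hdeg 0)
    rw [h _ hM] at h0
    rw [SurfBdd.cdeg_eq_curveι k ι L, SurfBdd.cdeg_curveι]
    have hη : ι (genericPoint C) = genericPoint X := by
      have hr : Set.range ι = Set.univ := by
        by_contra hne
        have hlt := H23.TopDim.dim_lt_of_ssubset (Nakai.ne_top_of_dim_eq hdim) ι.isClosedEmbedding.isClosed_range hne
        rw [← AmpleDev.dim_eq_one_of_closedImmersion ι rfl, hCd, hdim, Nat.cast_one] at hlt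
        exact lt_irrefl _ hlt
      exact (show IsGenericPoint (ι (genericPoint C)) Set.univ from (QCoh.range_eq_closure ι).symm.trans hr).eq
        (genericPoint_spec X)
    rw [hη, (mul_eq_zero.1 h0).resolve_left hc.ne', neg_zero]
  · refine index_irreducible k hdim hH hH' hHH' hL ?_ ?_
    · rw [qsym_comm, qsym_eq_alt_cons]
      refine (alt_congr_cl k (fun i => ?_) rfl).trans (hdeg (s + 1))
      refine Fin.cases rfl (fun i => Fin.cases rfl (fun i => rfl) i) i
    · rw [qsym_eq_alt_cons, hsq]

end Groth.Agent.Pencil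

end
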