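import Groth.Agent.Pencil.Irred
import Groth.Agent.SurfBdd.Bounded
import Groth.Agent.ThmA.Cor
import Groth.Agent.CurveAlgEquiv.Main
import Groth.Agent.TauNum.Pull

/-!
# Finitely many numerical classes of bounded degree and square
-/

set_option autoImplicit false
set_option linter.style.haveILetI false
set_option linter.unusedSectionVars false
set_option backward.isDefEq.respectTransparency false
set_option backward.isDefEq.respectTransparency.types false
set_option maxHeartbeats 1000000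
attribute [-instance] CategoryTheory.catToReflQuiver

universe u

open CategoryTheory CategoryTheory.Limits AlgebraicGeometry TopologicalSpace Opposite
open Groth.Agent.H23.PicMul

noncomputable section

namespace Groth.Agent.Pencil

open Groth.Agent Groth.Agent.Big

variable (k : Type u) [Field k] {X : Scheme.{u}} [X.Over (Spec (CommRingCat.of k))]
  [IsProper (X ↘ Spec (CommRingCat.of k))]

/-- Algebraic triviality implies numerical triviality over any field. -/
theorem nt_of_algEquiv {L : X.Modules} (hL : PicF.IsInvertible L) (h : Pic13.IsAlgEquivZero k X L) :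
    NumTau.NT k L := by
  refine NumTau.nt_of_numEquivZero hL fun Y i _ hY hd => ?_
  letI : Y.Over (Spec (CommRingCat.of k)) := ⟨i ≫ (X ↘ Spec (CommRingCat.of k))⟩
  haveI : IsProper (Y ↘ Spec (CommRingCat.of k)) :=
    inferInstanceAs (IsProper (i ≫ (X ↘ Spec (CommRingCat.of k))))
  haveI : Subsingleton ↥(Spec (CommRingCat.of k)) := inferInstanceAs (Subsingleton (PrimeSpectrum k))
  haveI : Flat (Y ↘ Spec (CommRingCat.of k)) := inferInstance
  have hA : Pic13.IsAlgEquivZero k Y ((Scheme.Modules.pullback i).obj L) :=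
    (CurveAlgEquiv.ae_iff _).1 (TauNum.ae_pull i rfl ((CurveAlgEquiv.ae_iff _).2 h))
  exact sub_eq_zero.2 (CurveAlgEquiv.eulerCharLE_eq_of_algEquiv (k := k) hd.le hA)

include k in
/-- Classes separated by a finite invariant are finitely many. -/
theorem exists_reps_of_fin {Q : X.Modules → Prop} (hQ : ∀ A, Q A → PicF.IsInvertible A) {q : ℕ}
    (S : Fin q → X.Modules → Prop) (hS : ∀ A, Q A → ∃ j, S j A)
    (h : ∀ j A B B', Q A → Q B → S j A → S j B → PicF.IsInvertible B' → PicF.cl B * PicF.cl B' = 1 →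
      NumTau.NT k (CohB1.tensorMod A B')) :
    ∃ (q' : ℕ) (R : Fin q' → X.Modules), (∀ j, PicF.IsInvertible (R j)) ∧ ∀ A, Q A →
      ∃ (j : Fin q') (D : X.Modules), NumTau.NT k D ∧ PicF.cl A = PicF.cl (R j) * PicF.cl D := by
  classical
  obtain ⟨q', ⟨e⟩⟩ := Finite.exists_equiv_fin {j : Fin q // ∃ A, Q A ∧ S j A}
  choose A₀ hA₀ hSA₀ using fun j : {j : Fin q // ∃ A, Q A ∧ S j A} => j.2
  refine ⟨q', fun l => A₀ (e.symm l), fun l => hQ _ (hA₀ _), fun A hA => ?_⟩
  obtain ⟨j, hj⟩ := hS A hA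
  let s : {j : Fin q // ∃ A, Q A ∧ S j A} := ⟨j, A, hA, hj⟩
  obtain ⟨B', hB', ⟨φ⟩⟩ := H23.PicInv.exists_inverse (hQ _ (hA₀ s))
  have he : PicF.cl (A₀ s) * PicF.cl B' = 1 := cl_mul_eq_one ⟨φ⟩
  refine ⟨e s, _, h j A (A₀ s) B' hA (hA₀ s) hj (hSA₀ s) hB' he, ?_⟩
  show PicF.cl A = PicF.cl (A₀ (e.symm (e s))) * _
  rw [e.symm_apply_apply, cl_tensor, mul_comm (PicF.cl A), ← mul_assoc, he, one_mul]

/-- A bounded family has finitely many numerical classes, over any field. -/
theorem exists_num_reps {H : X.Modules} (hH : CohB1.IsAmple H) {P : X.Modules → Prop}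
    (hinv : ∀ L, P L → PicF.IsInvertible L) (hP : Pic13.IsBounded k X P) :
    ∃ (q : ℕ) (R : Fin q → X.Modules), (∀ j, PicF.IsInvertible (R j)) ∧ ∀ L, P L →
      ∃ (j : Fin q) (D : X.Modules), NumTau.NT k D ∧ PicF.cl L = PicF.cl (R j) * PicF.cl D := by
  obtain ⟨N, 𝔽, h𝔽⟩ := NumTau.exists_families hH hinv hP
  exact exists_reps_of_fin k hinv (fun j L => (𝔽 j).Mem L) h𝔽 fun j A B B' hA _ hjA hjB hB' he =>
    nt_of_algEquiv k (InvX.isInvertible_tensorMod (hinv A hA) hB') ((𝔽 j).algEquiv hjA hjB hB' he)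

variable [IsIntegral X]

include k in
/-- On a surface degree and square bound the pairing with any class. -/
theorem exists_pair_bound (hdim : topologicalKrullDim X = 2) {H G : X.Modules} (hH : CohB1.IsAmple H)
    (hG : PicF.IsInvertible G) (B : ℕ) :
    ∃ C : ℕ, ∀ A, PicF.IsInvertible A → |pair k A H| ≤ B → -(B : ℚ) ≤ pair k A A → |pair k A G| ≤ C := by
  haveI := CurveCohLib.isNoetherian_of_proper (k := k) (X := X)
  obtain ⟨G', hG', ⟨ε⟩⟩ := H23.PicInv.exists_inverse hG
  have hGG' : PicF.cl G * PicF.cl G' = 1 := cl_mul_eq_one ⟨ε⟩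
  have ha : 0 < pair k H H := pair_self_pos k hdim hH
  obtain ⟨C, hC⟩ := exists_nat_gt
    ((((B : ℚ) + |pair k G H|) ^ 2 + (|pair k G G| + B) * pair k H H) / pair k H H)
  rw [div_lt_iff₀ ha] at hC
  refine ⟨C, fun A hA hd hs => ?_⟩
  have hd2 := hdim.le
  have h1 := pair_index_le k hdim hH (InvX.isInvertible_tensorMod hA hG)
  have h2 := pair_index_le k hdim hH (InvX.isInvertible_tensorMod hA hG')
  rw [pair_add k hd2 hA hG (InvX.isInvertible_tensorMod hA hG), pair_add k hd2 hA hG hH.1,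
    pair_symm k (L := A) (M := CohB1.tensorMod A G), pair_symm k (L := G) (M := CohB1.tensorMod A G),
    pair_add k hd2 hA hG hA, pair_add k hd2 hA hG hG, pair_symm k (L := G) (M := A)] at h1
  rw [pair_add k hd2 hA hG' (InvX.isInvertible_tensorMod hA hG'), pair_add k hd2 hA hG' hH.1,
    pair_symm k (L := A) (M := CohB1.tensorMod A G'), pair_symm k (L := G') (M := CohB1.tensorMod A G'),
    pair_add k hd2 hA hG' hA, pair_add k hd2 hA hG' hG', pair_inverse k hd2 hG hG' hGG' hA,
    pair_symm k (L := A) (M := G'), pair_inverse k hd2 hG hG' hGG' hA,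
    pair_inverse k hd2 hG hG' hGG' hH.1, pair_inverse k hd2 hG hG' hGG' hG',
    pair_symm k (L := G) (M := G'), pair_inverse k hd2 hG hG' hGG' hG, pair_symm k (L := G) (M := A)] at h2
  obtain ⟨d1, d2⟩ := abs_le.1 hd
  obtain ⟨c1, c2⟩ := abs_le.1 (le_refl |pair k G H|)
  obtain ⟨g1, g2⟩ := abs_le.1 (le_refl |pair k G G|)
  have hsq : ∀ w : ℚ, |w| ≤ (B : ℚ) + |pair k G H| → w ^ 2 ≤ ((B : ℚ) + |pair k G H|) ^ 2 := fun w hw =>
    sq_le_sq.2 (hw.trans (le_abs_self _))
  have s1 := hsq (pair k A H + pair k G H) ((abs_add_le _ _).trans (add_le_add hd le_rfl))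
  have s2 := hsq (pair k A H + -pair k G H) ((abs_add_le _ _).trans (add_le_add hd (abs_neg _).le))
  refine abs_le.2 ⟨?_, ?_⟩ <;> nlinarith [mul_le_mul_of_nonneg_right (add_le_add hs g1) ha.le]

include k in
/-- Finitely many classes of bounded degree and square on a surface over an infinite field. -/
theorem exists_reps_surface [Infinite k] (hdim : topologicalKrullDim X = (2 : ℕ)) {H H' : X.Modules}
    (hH : CohB1.IsAmple H) (hH' : PicF.IsInvertible H') (hHH' : PicF.cl H * PicF.cl H' = 1) (B : ℕ) :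
    ∃ (q : ℕ) (R : Fin q → X.Modules), (∀ j, PicF.IsInvertible (R j)) ∧
      ∀ A, (PicF.IsInvertible A ∧ |pair k A H'| ≤ B ∧ -(B : ℚ) ≤ pair k A A) →
        ∃ (j : Fin q) (D : X.Modules), NumTau.NT k D ∧ PicF.cl A = PicF.cl (R j) * PicF.cl D := by
  haveI := CurveCohLib.isNoetherian_of_proper (k := k) (X := X)
  obtain ⟨n, i, hi, hif⟩ := NumTau.exists_embedding (k := k) hH
  haveI := hi
  obtain ⟨C, hC⟩ := exists_pair_bound k hdim hH (TauNum.isInvertible_O1 i) B
  refine exists_num_reps k hH (fun A hA => hA.1)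
    (Bdd.isBounded_mono (SurfBdd.isBounded_surface k i hif hdim (max B C)) fun A ⟨hA, hd, hs⟩ => ?_)
  have hBC : (B : ℚ) ≤ (max B C : ℕ) := Nat.cast_le.2 (le_max_left _ _)
  have hCC : (C : ℚ) ≤ (max B C : ℕ) := Nat.cast_le.2 (le_max_right _ _)
  have hd' : |pair k A H| ≤ B := by
    rwa [pair_symm k, pair_inverse k hdim.le hH.1 hH' hHH' hA, abs_neg, pair_symm k] at hd
  exact ⟨A, ⟨hA, (hC A hA hd' hs).trans hCC, by linarith⟩, ⟨Iso.refl A⟩⟩

end Groth.Agent.Pencil

namespace Groth.Agent.Pencil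

open Groth.Agent Groth.Agent.Big

/-- Bounded degree and square cut out finitely many numerical classes. -/
theorem exists_reps : ∀ (s : ℕ) (k : Type u) [Field k] [Infinite k] (X : Scheme.{u})
    [X.Over (Spec (CommRingCat.of k))] [IsProper (X ↘ Spec (CommRingCat.of k))] [IsIntegral X],
    topologicalKrullDim X = (s + 2 : ℕ) → ∀ H H' : X.Modules, CohB1.IsAmple H → PicF.IsInvertible H' →
      PicF.cl H * PicF.cl H' = 1 → ∀ B : ℕ,
        ∃ (q : ℕ) (R : Fin q → X.Modules), (∀ j, PicF.IsInvertible (R j)) ∧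
          ∀ A, (PicF.IsInvertible A ∧ |qpair k H' s A H'| ≤ B ∧ -(B : ℚ) ≤ qpair k H' s A A) →
            ∃ (j : Fin q) (D : X.Modules), NumTau.NT k D ∧ PicF.cl A = PicF.cl (R j) * PicF.cl D := by
  intro s
  induction s with
  | zero =>
    intro k _ _ X _ _ _ hdim H H' hH hH' hHH' B
    obtain ⟨q, R, hR, h⟩ := exists_reps_surface k hdim hH hH' hHH' B
    exact ⟨q, R, hR, fun A hA => h A ⟨hA.1, by rw [← qpair_zero]; exact hA.2.1, by rw [← qpair_zero k H']; exact hA.2.2⟩⟩
  | succ s ih =>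
    intro k _ _ X _ _ _ hdim H H' hH hH' hHH' B
    haveI := CurveCohLib.isNoetherian_of_proper (k := k) (X := X)
    haveI : CompactSpace X := QuasiCompact.compactSpace_of_compactSpace (X ↘ Spec (CommRingCat.of k))
    obtain ⟨x, -, hx⟩ := IsClosed.exists_closed_singleton (S := (Set.univ : Set X)) isClosed_univ Set.univ_nonempty
    haveI : Subsingleton (IrreducibleCloseds ↥({x} : Set X)) := ⟨fun a b => by
      refine IrreducibleCloseds.ext (Set.ext fun z => ?_)
      obtain ⟨u, hu⟩ := a.isIrreducible.nonempty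
      obtain ⟨v, hv⟩ := b.isIrreducible.nonempty
      exact ⟨fun _ => by rwa [Subsingleton.elim z v], fun _ => by rwa [Subsingleton.elim z u]⟩⟩
    obtain ⟨m, hm, ξ, c, hξd, -, hc, hξ⟩ := exists_pencil k (d := s + 2) hdim hH ⟨{x}, hx⟩ (Set.singleton_nonempty x)
      (lt_of_le_of_lt (show topologicalKrullDim ↥({x} : Set X) ≤ 0 from Order.krullDim_nonpos_of_subsingleton)
        (by exact_mod_cast Nat.succ_pos (s + 1)))
    haveI := CurveCohLib.isNoetherian_of_proper (k := KT k) (X := XT k X)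
    set J := Scheme.IdealSheafData.vanishingIdeal (⟨closure ({ξ} : Set (XT k X)), isClosed_closure⟩ : Closeds (XT k X))
    letI : J.subscheme.Over (Spec (CommRingCat.of (KT k))) :=
      ⟨J.subschemeι ≫ (XT k X ↘ Spec (CommRingCat.of (KT k)))⟩
    haveI : IsProper (J.subscheme ↘ Spec (CommRingCat.of (KT k))) :=
      inferInstanceAs (IsProper (J.subschemeι ≫ (XT k X ↘ Spec (CommRingCat.of (KT k)))))
    haveI : IsIntegral J.subscheme := QCoh.isIntegral_closure_point ξ
    have hJd : topologicalKrullDim J.subscheme = (s + 2 : ℕ) :=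
      (AmpleDev.dim_eq_one_of_closedImmersion J.subschemeι (H23.RedSub.range_vanishingIdeal _)).trans hξd
    let G : X.Modules → J.subscheme.Modules := fun A =>
      (Scheme.Modules.pullback J.subschemeι).obj ((Scheme.Modules.pullback (proj k X)).obj A)
    have hGi : ∀ {A : X.Modules}, PicF.IsInvertible A → PicF.IsInvertible (G A) := fun hA =>
      PicClLib.isInvertible_pullback _ (PicClLib.isInvertible_pullback _ hA)
    have hGone : ∀ {A A' : X.Modules}, PicF.cl A * PicF.cl A' = 1 → PicF.cl (G A) * PicF.cl (G A') = 1 :=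
      fun h => cl_pull_one _ (cl_pull_one _ h)
    have hGmul : ∀ A A' : X.Modules, PicF.cl (G (CohB1.tensorMod A A')) = PicF.cl (G A) * PicF.cl (G A') := fun A A' => by
      show PicF.pullCl _ (PicF.pullCl _ (PicF.cl (CohB1.tensorMod A A'))) = _
      rw [cl_tensor, pullCl_mul, pullCl_mul]
      rfl
    have htr : ∀ {A M : X.Modules}, PicF.IsInvertible A → PicF.IsInvertible M →
        qpair k H' (s + 1) A M = c / m * qpair (KT k) (G H') s (G A) (G M) := fun {A M} hA hM => by
      rw [qpair_pencil k hdim hH hH' hHH' hm hξ hA hM]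
      congr 1
      refine (alt_clMod (KT k) ξ fun j => PicClLib.isInvertible_pullback _ (inv_qvec hH' hA hM j)).trans
        (alt_congr_cl (KT k) (fun j => ?_) rfl)
      induction j using Fin.lastCases with
      | last => simp [qvec, G, J]
      | cast j =>
        induction j using Fin.lastCases with
        | last => simp [qvec, G, J]
        | cast j => simp [qvec, G, J]
    haveI := CurveCohLib.isNoetherian_of_proper (k := KT k) (X := J.subscheme)
    have hcm : 0 < c / m := div_pos hc (Nat.cast_pos.2 hm)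
    obtain ⟨B', hB'⟩ := exists_nat_gt ((B : ℚ) / (c / m))
    rw [div_lt_iff₀ hcm] at hB'
    haveI : Infinite (KT k) := Infinite.of_injective (algebraMap k (KT k)) (algebraMap k (KT k)).injective
    obtain ⟨q, R, hR, hrep⟩ := ih (KT k) J.subscheme hJd (G H) (G H')
      (AmpleDev.isAmple_pullback_finite (KT k) J.subschemeι (isAmple_proj k X hH)) (hGi hH') (hGone hHH') B'
    refine exists_reps_of_fin k (fun A hA => hA.1)
      (fun j A => ∃ D, NumTau.NT (KT k) D ∧ PicF.cl (G A) = PicF.cl (R j) * PicF.cl D) (fun A ⟨hA, h1, h2⟩ => ?_) ?_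
    · refine hrep (G A) ⟨hGi hA, ?_, ?_⟩
      · rw [htr hA hH', abs_mul, abs_of_pos hcm] at h1
        nlinarith [abs_nonneg (qpair (KT k) (G H') s (G A) (G H'))]
      · rw [htr hA hA] at h2
        nlinarith
    rintro j A A₂ A₂' ⟨hA, -, -⟩ ⟨hA₂, -, -⟩ ⟨D, hD, hAD⟩ ⟨D₂, hD₂, hA₂D⟩ hA₂' he
    obtain ⟨D₂', hD₂', hDD⟩ := hD₂.inv
    have hu : PicF.cl (R j) * PicF.cl D₂ * PicF.cl (G A₂') = 1 := by
      rw [← hA₂D]
      exact hGone he
    have hE : PicF.IsInvertible (CohB1.tensorMod A A₂') := InvX.isInvertible_tensorMod hA hA₂'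
    have hGE : NumTau.NT (KT k) (G (CohB1.tensorMod A A₂')) := ThmA.nt_congr (L := CohB1.tensorMod D D₂') (by
      rw [cl_tensor, hGmul, hAD]
      calc PicF.cl D * PicF.cl D₂' = PicF.cl D * PicF.cl D₂' * (PicF.cl (R j) * PicF.cl D₂ * PicF.cl (G A₂')) := by
            rw [hu, mul_one]
        _ = PicF.cl (R j) * PicF.cl D * PicF.cl (G A₂') * (PicF.cl D₂ * PicF.cl D₂') := by ac_rfl
        _ = _ := by rw [hDD, mul_one]) (hD.mul hD₂')
    have hz : ∀ {M : X.Modules}, PicF.IsInvertible M → qpair k H' (s + 1) (CohB1.tensorMod A A₂') M = 0 := fun {M} hM => by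
      rw [htr hE hM]
      refine mul_eq_zero_of_right _ ((qsym_comm (KT k) (G H') s _ _ _).trans ((qsym_eq_alt_cons (KT k) _ s _ _ _).trans ?_))
      exact alt_eq_zero_of_numTriv (KT k) (hGi hE) (NumTau.numTriv_of_nt (KT k) hGE) (s + 1) _
        (Fin.cases (hGi hM) fun _ => hGi hH') _ QCoh.isCoh_structureModule'
        ((topologicalKrullDim_subspace_le J.subscheme _).trans hJd.le)
    exact NumTau.nt_of_numEquivZero hE (isNumEquivZero_of_numTriv hE
      ((index (s + 1) k X hdim H H' _ hH hH' hHH' hE (hz hH')).2 (hz hE).ge))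

end Groth.Agent.Pencil

end
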