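import Groth.Agent.Big.NumInv
import Groth.Agent.TauNum.Bounded
import Groth.Agent.Snapper.DimVanish
import Mathlib.Algebra.Group.ForwardDiff

/-!
# Iterated differences of Hilbert functions are intersection numbers
-/

set_option autoImplicit false
set_option linter.style.haveILetI false
set_option linter.unusedSectionVars false
set_option backward.isDefEq.respectTransparency false
set_option backward.isDefEq.respectTransparency.types false
set_option maxHeartbeats 1000000
attribute [-instance] CategoryTheory.catToReflQuiver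

universe u

open CategoryTheory CategoryTheory.Limits AlgebraicGeometry TopologicalSpace Opposite
open Groth.Agent.H23.PicMul
open scoped fwdDiff

noncomputable section

namespace Groth.Agent.Pencil

open Groth.Agent Groth.Agent.Big

/-- Differences of the binomial basis. -/
theorem fwdDiff_choose (r j m : ℕ) :
    (fwdDiff 1)^[r] (fun m : ℕ => (((m + j).choose j : ℕ) : ℚ)) m =
      if r ≤ j then (((m + j).choose (j - r) : ℕ) : ℚ) else 0 := by
  induction r generalizing m with
  | zero => simp
  | succ r ih =>
    rw [Function.iterate_succ_apply', fwdDiff, ih (m + 1), ih m]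
    rcases Nat.lt_trichotomy r j with h | h | h
    · rw [if_pos h.le, if_pos h.le, if_pos (show r + 1 ≤ j from h), show j - r = (j - (r + 1)) + 1 by omega,
        show m + 1 + j = (m + j) + 1 by omega, Nat.choose_succ_succ']
      push_cast
      ring
    · rw [if_pos h.le, if_pos h.le, if_neg (by omega)]
      subst h
      simp
    · rw [if_neg (by omega), if_neg (by omega), if_neg (by omega), sub_zero]

variable (k : Type u) [Field k] {X : Scheme.{u}} [X.Over (Spec (CommRingCat.of k))]
  [IsProper (X ↘ Spec (CommRingCat.of k))]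

/-- The symbol of a power of an inverse is an iterated difference. -/
theorem alt_const_eq_fwdDiff {H H' : X.Modules} (h : PicF.cl H * PicF.cl H' = 1) (F : X.Modules) (r m : ℕ) :
    alt k (fun _ : Fin r => H') (CohB1.tensorMod F (CohB1.tensorPow H (m + r))) =
      (fwdDiff 1)^[r] (fun d : ℕ => (Curv2.euler k X (CohB1.tensorMod F (CohB1.tensorPow H d)) : ℚ)) m := by
  induction r generalizing m with
  | zero =>
    rw [alt_empty]
    rfl
  | succ r ih =>
    rw [show (fun _ : Fin (r + 1) => H') = Fin.cons H' (fun _ : Fin r => H') from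
      funext (Fin.cases rfl fun _ => rfl), alt_cons, Function.iterate_succ_apply', fwdDiff, ← ih, ← ih,
      show m + 1 + r = m + (r + 1) by omega]
    refine congrArg₂ (· - ·) rfl (alt_congr_cl k (fun _ => rfl) ?_)
    rw [cl_tensor, cl_tensor, cl_tensor, cl_tensorPow, cl_tensorPow, show m + (r + 1) = (m + r) + 1 by omega, pow_succ]
    calc PicF.cl F * (PicF.cl H ^ (m + r) * PicF.cl H) * PicF.cl H'
        = PicF.cl F * PicF.cl H ^ (m + r) * (PicF.cl H * PicF.cl H') := by ac_rfl
      _ = _ := by rw [h, mul_one]

/-- The symbol of a power reads a coefficient in the binomial basis. -/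
theorem alt_const_eq_sum {H H' : X.Modules} (h : PicF.cl H * PicF.cl H' = 1) (F : X.Modules) (r t : ℕ)
    (a : Fin t → ℤ) (ha : ∀ m : ℕ, Curv2.euler k X (CohB1.tensorMod F (CohB1.tensorPow H m)) =
      ∑ j : Fin t, a j * ((m + j).choose j : ℤ)) :
    alt k (fun _ : Fin r => H') (CohB1.tensorMod F (CohB1.tensorPow H r)) =
      ∑ j : Fin t, (a j : ℚ) * (if r ≤ (j : ℕ) then (((j : ℕ).choose ((j : ℕ) - r) : ℕ) : ℚ) else 0) := by
  have h1 := alt_const_eq_fwdDiff k h F r 0
  rw [Nat.zero_add] at h1
  rw [h1, show (fun d : ℕ => (Curv2.euler k X (CohB1.tensorMod F (CohB1.tensorPow H d)) : ℚ)) =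
      ∑ j : Fin t, (a j : ℚ) • (fun m : ℕ => (((m + j).choose j : ℕ) : ℚ)) from funext fun d => by
        rw [ha d]; simp [Finset.sum_apply],
    fwdDiff_iter_finsetSum, Finset.sum_apply]
  refine Finset.sum_congr rfl fun j _ => ?_
  rw [fwdDiff_iter_const_smul, Pi.smul_apply, fwdDiff_choose, Nat.zero_add, smul_eq_mul]

/-- Twisting by invertibles does not change a top symbol. -/
theorem alt_top_structure {r : ℕ} (hdim : topologicalKrullDim X ≤ r) {M : Fin r → X.Modules}
    (hM : ∀ i, PicF.IsInvertible (M i)) {B : X.Modules} (hB : PicF.IsInvertible B) :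
    alt k M B = alt k M (Coh.structureModule X) := by
  haveI := CurveCohLib.isNoetherian_of_proper (k := k) (X := X)
  rw [← alt_twist k hM QCoh.isCoh_structureModule' hB ((topologicalKrullDim_subspace_le X _).trans hdim)]
  exact alt_congr_cl k (fun _ => rfl) (by rw [cl_tensor, one_mul_cl])

include k in
theorem eulerCharLE_eq_euler {d : ℕ} (hd : topologicalKrullDim X ≤ d) {F : X.Modules} (hF : Coh.IsCoh F) :
    FGA.eulerCharLE k X F d = Curv2.euler k X F := by
  haveI := CurveCohLib.isNoetherian_of_proper (k := k) (X := X)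
  haveI : X.IsSeparated := AmpleVan.isSeparated_of_proper (X := X) (A := k)
  exact (Euler.euler_eq_sum k F (d + 1) fun q hq => Snapper.subsingleton_HH_of_dim_le hd hF.1 (by omega)).symm

/-- The two top coefficients. -/
theorem top_coeffs {s : ℕ} (hdim : topologicalKrullDim X ≤ (s + 1 : ℕ)) {H H' L L' : X.Modules}
    (hH : PicF.IsInvertible H) (hH' : PicF.IsInvertible H') (hHH' : PicF.cl H * PicF.cl H' = 1)
    (hL : PicF.IsInvertible L) (hL' : PicF.IsInvertible L') (hLL' : PicF.cl L * PicF.cl L' = 1)
    (a e : Fin (s + 2) → ℤ)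
    (ha : ∀ m : ℕ, Curv2.euler k X (CohB1.tensorMod L (CohB1.tensorPow H m)) =
      ∑ j : Fin (s + 2), a j * ((m + j).choose j : ℤ))
    (he : ∀ m : ℕ, Curv2.euler k X (CohB1.tensorMod (Coh.structureModule X) (CohB1.tensorPow H m)) =
      ∑ j : Fin (s + 2), e j * ((m + j).choose j : ℤ)) :
    a (Fin.last (s + 1)) = e (Fin.last (s + 1)) ∧
      a (Fin.last (s + 1)) = FGA.intNum k X (s + 1) (fun _ : Fin (s + 1) => H') (Coh.structureModule X) ∧
      a (Fin.castSucc (Fin.last s)) - e (Fin.castSucc (Fin.last s)) = FGA.intNum k X (s + 1)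
        (Matrix.vecCons L' (fun _ : Fin s => H')) (Coh.structureModule X) := by
  haveI := CurveCohLib.isNoetherian_of_proper (k := k) (X := X)
  have htop : ∀ (F : X.Modules), PicF.IsInvertible F → ∀ c : Fin (s + 2) → ℤ,
      (∀ m : ℕ, Curv2.euler k X (CohB1.tensorMod F (CohB1.tensorPow H m)) = ∑ j : Fin (s + 2), c j * ((m + j).choose j : ℤ)) →
      alt k (fun _ : Fin (s + 1) => H') (Coh.structureModule X) = c (Fin.last (s + 1)) := fun F hF c hc => by
    rw [← alt_top_structure k hdim (fun _ => hH') (InvX.isInvertible_tensorMod hF (InvX.isInvertible_tensorPow hH (s + 1))),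
      alt_const_eq_sum k hHH' F (s + 1) (s + 2) c hc, Finset.sum_eq_single (Fin.last (s + 1))]
    · simp
    · intro j _ hj
      rw [if_neg (fun h => hj (Fin.ext (by simp only [Fin.val_last]; omega))), mul_zero]
    · simp
  have hint := intNum_eq_alt k hdim (M := fun _ : Fin (s + 1) => H') (fun _ => hH') QCoh.isCoh_structureModule'
  have e₁ : (a (Fin.last (s + 1)) : ℚ) = e (Fin.last (s + 1)) :=
    (htop L hL a ha).symm.trans (htop _ CurveDeg.isInvertible_structureModule e he)
  refine ⟨by exact_mod_cast e₁, Int.cast_injective (α := ℚ) ((htop L hL a ha).symm.trans hint.symm),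
    Int.cast_injective (α := ℚ) ?_⟩
  have hM : ∀ j, PicF.IsInvertible ((fun _ : Fin s => H') j) := fun _ => hH'
  have hsub : ∀ (F : X.Modules) (c : Fin (s + 2) → ℤ),
      (∀ m : ℕ, Curv2.euler k X (CohB1.tensorMod F (CohB1.tensorPow H m)) = ∑ j : Fin (s + 2), c j * ((m + j).choose j : ℤ)) →
      alt k (fun _ : Fin s => H') (CohB1.tensorMod F (CohB1.tensorPow H s)) =
        c (Fin.castSucc (Fin.last s)) + (s + 1) * c (Fin.last (s + 1)) := fun F c hc => by
    rw [alt_const_eq_sum k hHH' F s (s + 2) c hc, Fin.sum_univ_castSucc, Finset.sum_eq_single (Fin.last s)]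
    · simp [Nat.choose_one_right]
      ring
    · intro j _ hj
      rw [if_neg (fun h => hj (Fin.ext (by simp only [Fin.val_last, Fin.val_castSucc] at h ⊢; omega))), mul_zero]
    · simp
  have hLs := InvX.isInvertible_tensorMod (CurveDeg.isInvertible_structureModule (X := X)) (InvX.isInvertible_tensorPow hH s)
  have hd := (topologicalKrullDim_subspace_le X (CohB1.support (Coh.structureModule X))).trans hdim
  have hcons : alt k (Fin.cons L' fun _ : Fin s => H') (Coh.structureModule X) =
      -alt k (Fin.cons L fun _ : Fin s => H') (Coh.structureModule X) := by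
    have h := alt_cons_tensor k hM QCoh.isCoh_structureModule' hL hL' hd
    rw [alt_cons k (CohB1.tensorMod L L'), alt_congr_cl k (fun _ => rfl) (G := Coh.structureModule X)
      (F := CohB1.tensorMod (Coh.structureModule X) (CohB1.tensorMod L L'))
      (by rw [cl_tensor, cl_tensor, hLL', mul_one]), sub_self] at h
    linarith
  rw [intNum_eq_alt k hdim (Fin.cases hL' fun _ => hH') QCoh.isCoh_structureModule']
  show _ = alt k (Fin.cons L' fun _ : Fin s => H') (Coh.structureModule X)
  rw [hcons, ← alt_top_structure k hdim (M := Fin.cons L fun _ : Fin s => H') (Fin.cases hL fun _ => hH') hLs, alt_cons,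
    alt_congr_cl k (fun _ => rfl) (G := CohB1.tensorMod L (CohB1.tensorPow H s))
      (F := CohB1.tensorMod (CohB1.tensorMod (Coh.structureModule X) (CohB1.tensorPow H s)) L)
      (by rw [cl_tensor, cl_tensor, cl_tensor, one_mul_cl]; exact mul_comm _ _),
    hsub L a ha, hsub _ e he]
  push_cast
  rw [e₁]
  ring

end Groth.Agent.Pencil

end
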