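import Groth.Agent.Pencil.Classes
import Groth.Agent.AmpleX.Generated

/-!
# Families all of whose twists by a fixed ample power are ample
-/

set_option autoImplicit false
set_option linter.style.haveILetI false
set_option linter.unusedSectionVars false
set_option backward.isDefEq.respectTransparency false
set_option backward.isDefEq.respectTransparency.types false
set_option maxHeartbeats 1000000
attribute [-instance] CategoryTheory.catToReflQuiver

universe u

open CategoryTheory CategoryTheory.Limits AlgebraicGeometry TopologicalSpace Opposite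
open Groth.Agent.H23.PicMul

noncomputable section

namespace Groth.Agent.Pencil

open Groth.Agent Groth.Agent.Big

variable (k : Type u) [Field k] {X : Scheme.{u}} [X.Over (Spec (CommRingCat.of k))]
  [IsProper (X ↘ Spec (CommRingCat.of k))] [IsIntegral X]

section High

variable {s : ℕ} (hdim : topologicalKrullDim X = (s + 2 : ℕ))

include k hdim

theorem qpair_tensor {H' L A B : X.Modules} (hH' : PicF.IsInvertible H') (hL : PicF.IsInvertible L)
    (hA : PicF.IsInvertible A) (hB : PicF.IsInvertible B) :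
    qpair k H' s L (CohB1.tensorMod A B) = qpair k H' s L A + qpair k H' s L B := by
  haveI := CurveCohLib.isNoetherian_of_proper (k := k) (X := X)
  rw [qpair_eq_alt_cons, qpair_eq_alt_cons, qpair_eq_alt_cons]
  exact alt_cons_tensor k (Fin.cases hL fun _ => hH') QCoh.isCoh_structureModule' hA hB
    ((topologicalKrullDim_subspace_le X _).trans hdim.le)

theorem qpair_congr {H' L A B : X.Modules} (h : PicF.cl A = PicF.cl B) : qpair k H' s L A = qpair k H' s L B := by
  rw [qpair_eq_alt_cons, qpair_eq_alt_cons]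
  exact alt_congr_cl k (Fin.cases h fun _ => rfl) rfl

theorem qpair_one {H' L : X.Modules} (hH' : PicF.IsInvertible H') (hL : PicF.IsInvertible L) :
    qpair k H' s L (Coh.structureModule X) = 0 := by
  have h := qpair_tensor k hdim hH' hL (CurveDeg.isInvertible_structureModule (X := X))
    (CurveDeg.isInvertible_structureModule (X := X))
  rw [qpair_congr k hdim (B := Coh.structureModule X) (by rw [cl_tensor, one_mul_cl])] at h
  linarith

theorem qpair_pow {H' L A : X.Modules} (hH' : PicF.IsInvertible H') (hL : PicF.IsInvertible L)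
    (hA : PicF.IsInvertible A) (n : ℕ) :
    qpair k H' s L (CohB1.tensorPow A n) = n * qpair k H' s L A := by
  induction n with
  | zero =>
    rw [Nat.cast_zero, zero_mul]
    exact qpair_one k hdim hH' hL
  | succ n ih =>
    rw [show CohB1.tensorPow A (n + 1) = CohB1.tensorMod (CohB1.tensorPow A n) A from rfl,
      qpair_tensor k hdim hH' hL (InvX.isInvertible_tensorPow hA n) hA, ih]
    push_cast
    ring

theorem qpair_inverse {H' L A A' : X.Modules} (hH' : PicF.IsInvertible H') (hL : PicF.IsInvertible L)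
    (hA : PicF.IsInvertible A) (hA' : PicF.IsInvertible A') (h : PicF.cl A * PicF.cl A' = 1) :
    qpair k H' s L A' = -qpair k H' s L A := by
  have h1 := qpair_tensor k hdim hH' hL hA hA'
  rw [qpair_congr k hdim (B := Coh.structureModule X) (by rw [cl_tensor, h, ← H23.PicMul.one_def]),
    qpair_one k hdim hH' hL] at h1
  linarith

theorem qpair_comm {H' L A : X.Modules} : qpair k H' s L A = qpair k H' s A L :=
  qsym_comm k H' s L A _

theorem qpair_pos {H H' P P' Q Q' : X.Modules} (hH : CohB1.IsAmple H) (hH' : PicF.IsInvertible H')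
    (hHH' : PicF.cl H * PicF.cl H' = 1) (hP : CohB1.IsAmple P) (hP' : PicF.IsInvertible P')
    (hPP' : PicF.cl P * PicF.cl P' = 1) (hQ : CohB1.IsAmple Q) (hQ' : PicF.IsInvertible Q')
    (hQQ' : PicF.cl Q * PicF.cl Q' = 1) : 0 < qpair k H' s P' Q' := by
  refine Big.pos k (s + 2) X hdim (qvec H s P Q) (qvec H' s P' Q') (fun j => ?_) (inv_qvec hH' hP' hQ') fun j => ?_
  all_goals
    induction j using Fin.lastCases with
    | last => simp [qvec, hQ, hQQ']
    | cast j =>
      induction j using Fin.lastCases with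
      | last => simp [qvec, hP, hPP']
      | cast j => simp [qvec, hH, hHH']

/-- Ample twists bound the degree and bound the square from below. -/
theorem bounds_of_twists {H H' A A' : X.Modules} (hH : CohB1.IsAmple H) (hH' : PicF.IsInvertible H')
    (hHH' : PicF.cl H * PicF.cl H' = 1) (hA : PicF.IsInvertible A) (hA' : PicF.IsInvertible A')
    (hAA' : PicF.cl A * PicF.cl A' = 1) (N : ℕ) (h₁ : CohB1.IsAmple (CohB1.tensorMod (CohB1.tensorPow H N) A'))
    (h₂ : CohB1.IsAmple (CohB1.tensorMod (CohB1.tensorPow H N) A)) :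
    |qpair k H' s A H'| ≤ N * qpair k H' s H' H' ∧
      -(3 * (N : ℚ) ^ 2 * qpair k H' s H' H') ≤ qpair k H' s A A := by
  have hHN := InvX.isInvertible_tensorPow hH' N
  have hp := InvX.isInvertible_tensorMod hHN hA
  have hm := InvX.isInvertible_tensorMod hHN hA'
  have e : ∀ {a b : X.Modules}, PicF.cl a * PicF.cl b = 1 →
      PicF.cl (CohB1.tensorMod (CohB1.tensorPow H N) a) * PicF.cl (CohB1.tensorMod (CohB1.tensorPow H' N) b) = 1 := fun h => by
    rw [cl_tensor, cl_tensor, cl_tensorPow, cl_tensorPow, mul_mul_mul_comm, ← mul_pow, hHH', one_pow, one_mul, h]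
  have e₁ := e (show PicF.cl A' * PicF.cl A = 1 by rw [mul_comm, hAA'])
  have e₂ := e hAA'
  have p₁ := qpair_pos k hdim hH hH' hHH' hH hH' hHH' h₁ hp e₁
  have p₂ := qpair_pos k hdim hH hH' hHH' hH hH' hHH' h₂ hm e₂
  have p₃ := qpair_pos k hdim hH hH' hHH' h₁ hp e₁ h₁ hp e₁
  rw [qpair_tensor k hdim hH' hH' hHN hA, qpair_pow k hdim hH' hH' hH'] at p₁
  rw [qpair_tensor k hdim hH' hH' hHN hA', qpair_pow k hdim hH' hH' hH',
    qpair_inverse k hdim hH' hH' hA hA' hAA'] at p₂
  rw [qpair_tensor k hdim hH' hp hHN hA, qpair_pow k hdim hH' hp hH',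
    qpair_comm k hdim (A := H'), qpair_tensor k hdim hH' hH' hHN hA, qpair_pow k hdim hH' hH' hH',
    qpair_comm k hdim (L := CohB1.tensorMod (CohB1.tensorPow H' N) A) (A := A), qpair_tensor k hdim hH' hA hHN hA,
    qpair_pow k hdim hH' hA hH', qpair_comm k hdim (L := H') (A := A)] at p₃
  rw [qpair_comm k hdim (L := H') (A := A)] at p₁ p₂
  have hN : (0 : ℚ) ≤ N := Nat.cast_nonneg _
  have hd : |qpair k H' s A H'| ≤ N * qpair k H' s H' H' := abs_le.2 ⟨by linarith, by linarith⟩
  refine ⟨hd, ?_⟩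
  nlinarith [mul_le_mul_of_nonneg_left (abs_le.1 hd).2 hN]

end High

include k in
/-- Ample twists leave finitely many classes in dimension at most one. -/
theorem exists_reps_low {e : ℕ} (he : topologicalKrullDim X = e) (he1 : e ≤ 1) {H : X.Modules}
    (hH : CohB1.IsAmple H) {P : X.Modules → Prop} (hP : ∀ L, P L → PicF.IsInvertible L) (N : ℕ)
    (hN : ∀ L L' : X.Modules, P L → PicF.IsInvertible L' → PicF.cl L * PicF.cl L' = 1 →
      CohB1.IsAmple (CohB1.tensorMod (CohB1.tensorPow H N) L) ∧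
        CohB1.IsAmple (CohB1.tensorMod (CohB1.tensorPow H N) L')) :
    ∃ (q : ℕ) (R : Fin q → X.Modules), (∀ j, PicF.IsInvertible (R j)) ∧ ∀ A, P A →
      ∃ (j : Fin q) (D : X.Modules), NumTau.NT k D ∧ PicF.cl A = PicF.cl (R j) * PicF.cl D := by
  haveI := CurveCohLib.isNoetherian_of_proper (k := k) (X := X)
  rcases Nat.le_one_iff_eq_zero_or_eq_one.1 he1 with rfl | rfl
  · refine exists_reps_of_fin k hP (q := 1) (fun _ _ => True) (fun _ _ => ⟨0, trivial⟩) fun _ A B B' hA _ _ _ hB' _ => ?_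
    refine NumTau.nt_of_numEquivZero (InvX.isInvertible_tensorMod (hP A hA) hB') fun Y ι _ _ hY => ?_
    have h := ι.isClosedEmbedding.isInducing.topologicalKrullDim_le
    rw [hY, he] at h
    exact absurd (show (1 : ℕ) ≤ (0 : ℕ) by exact_mod_cast h) (by decide)
  have hd : topologicalKrullDim X ≤ (1 : ℕ) := he.le
  let f : X.Modules → ℤ := fun A => Curv2.euler k X (CohB1.tensorMod ((Coh.push (𝟙 X)).obj (Coh.structureModule X)) A) -
    Curv2.euler k X ((Coh.push (𝟙 X)).obj (Coh.structureModule X))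
  have hf : ∀ A, (f A : ℚ) = cdeg k (𝟙 X) A := fun A => by rw [cdeg_eq, Int.cast_sub]
  have hpos : ∀ P : X.Modules, CohB1.IsAmple P → 0 < cdeg k (𝟙 X) P := fun P hP => by
    obtain ⟨P', hP', ⟨ε⟩⟩ := H23.PicInv.exists_inverse hP.1
    rw [← neg_neg (cdeg k (𝟙 X) P), ← cdeg_inverse k (𝟙 X) hd hP.1 hP' (cl_mul_eq_one ⟨ε⟩), cdeg, neg_neg]
    have h := Big.pos k 1 X he ![P] ![P'] (fun j => by fin_cases j; exact hP) (fun j => by fin_cases j; exact hP')
      (fun j => by fin_cases j; exact cl_mul_eq_one ⟨ε⟩)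
    exact h.trans_le (alt_congr_cl k (fun _ => rfl) (cl_eq_iff.2 ⟨((Scheme.Modules.pushforwardId X).app _).symm⟩)).le
  obtain ⟨M, hM⟩ := exists_nat_gt (cdeg k (𝟙 X) (CohB1.tensorPow H N))
  refine exists_reps_of_fin k hP (q := 2 * M + 1) (fun j A => f A = (j : ℕ) - (M : ℤ)) (fun A hA => ?_)
    fun j A B B' hA hB hjA hjB hB' hBB' => ?_
  · obtain ⟨A', hA', ⟨ε⟩⟩ := H23.PicInv.exists_inverse (hP A hA)
    obtain ⟨h1, h2⟩ := hN A A' hA hA' (cl_mul_eq_one ⟨ε⟩)
    have p1 := hpos _ h1
    have p2 := hpos _ h2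
    rw [cdeg_add k (𝟙 X) hd (InvX.isInvertible_tensorPow hH.1 N) (hP A hA), ← hf A] at p1
    rw [cdeg_add k (𝟙 X) hd (InvX.isInvertible_tensorPow hH.1 N) hA',
      cdeg_inverse k (𝟙 X) hd (hP A hA) hA' (cl_mul_eq_one ⟨ε⟩), ← hf A] at p2
    have h3 : (f A : ℚ) < ((M : ℤ) : ℚ) := by push_cast; linarith
    have h4 : ((-(M : ℤ)) : ℚ) < (f A : ℚ) := by push_cast; linarith
    rw [Int.cast_lt] at h3
    have h4' : -(M : ℤ) < f A := by exact_mod_cast h4
    refine ⟨⟨(f A + M).toNat, by omega⟩, ?_⟩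
    show f A = ((f A + M).toNat : ℤ) - M
    omega
  refine NumTau.nt_of_numEquivZero (InvX.isInvertible_tensorMod (hP A hA) hB') (isNumEquivZero_of_numTriv
    (InvX.isInvertible_tensorMod (hP A hA) hB') fun Y ι _ hY hYd => ?_)
  haveI := hY
  have hr : Set.range ι = Set.univ := by
    refine QCoh.range_eq_closure ι |>.trans ?_
    by_contra hne
    have hlt := H23.TopDim.dim_lt_of_ssubset (Nakai.ne_top_of_dim_eq he) (isClosed_closure (s := ({ι (genericPoint Y)} : Set X))) hne
    rw [← QCoh.range_eq_closure ι, ← AmpleDev.dim_eq_one_of_closedImmersion ι rfl, hYd, he, Nat.cast_one] at hlt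
    exact lt_irrefl _ hlt
  obtain ⟨φ⟩ := QCoh.push_structure_iso ι (𝟙 X) (hr.trans Set.range_id.symm).symm
  have e : cdeg k ι (CohB1.tensorMod A B') = cdeg k (𝟙 X) (CohB1.tensorMod A B') :=
    congrArg Neg.neg (alt_congr_cl k (fun _ => rfl) (cl_eq_iff.2 ⟨φ.symm⟩))
  rw [e, cdeg_add k (𝟙 X) hd (hP A hA) hB', cdeg_inverse k (𝟙 X) hd (hP B hB) hB' hBB', ← hf, ← hf, hjA, hjB]
  ring

end Groth.Agent.Pencil

end
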